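import Mathlib.Topology.Spectral.Basic
import Mathlib.Topology.Spectral.Hom
import Mathlib.Topology.Spectral.ConstructibleTopology
import Mathlib.Topology.Constructible

/-! The constructible topology of a spectral space. -/

set_option autoImplicit false
set_option linter.unusedVariables false
set_option linter.unusedSectionVars false
set_option linter.style.haveILetI false

universe u v

open Set Topology TopologicalSpace

namespace Groth.Agent.SpecSp50

section Generic

variable {Y : Type u}

theorem isCompact_mono {t t' : TopologicalSpace Y} (h : t ≤ t') {E : Set Y} (hE : @IsCompact Y t E) :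
    @IsCompact Y t' E := by
  rw [@isCompact_iff_ultrafilter_le_nhds Y t'] 
  intro f hf
  obtain ⟨x, hx, hx'⟩ := (@isCompact_iff_ultrafilter_le_nhds Y t E).1 hE f hf
  exact ⟨x, hx, hx'.trans (nhds_mono h)⟩

theorem isCompact_of_compact_of_le {t t' : TopologicalSpace Y} (h : t ≤ t')
    (hc : @CompactSpace Y t) {E : Set Y} (hE : IsClosed[t] E) : @IsCompact Y t' E :=
  isCompact_mono h (@IsClosed.isCompact Y t E hc hE)

end Generic

variable {X : Type u} [tX : TopologicalSpace X]

local notation "K[" X "]" => constructibleTopology X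

theorem isOpen_cons_of_qc {U : Set X} (ho : IsOpen U) (hc : IsCompact U) : IsOpen[K[X]] U :=
  hc.isOpen_constructibleTopology_of_isOpen ho

theorem isClosed_cons_of_qc {U : Set X} (ho : IsOpen U) (hc : IsCompact U) : IsClosed[K[X]] U := by
  rw [← @isOpen_compl_iff X U K[X]]
  exact IsCompact.isOpen_constructibleTopology_of_isClosed (by rwa [compl_compl]) ho.isClosed_compl

theorem cons_le [PrespectralSpace X] : K[X] ≤ tX := by
  intro U hU
  rw [(PrespectralSpace.isTopologicalBasis (X := X)).open_eq_sUnion' hU]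
  exact @isOpen_sUnion X K[X] _ fun V hV => isOpen_cons_of_qc hV.1.1 hV.1.2

theorem isClosed_cons_of_isClosed [PrespectralSpace X] {F : Set X} (hF : IsClosed F) :
    IsClosed[K[X]] F :=
  hF.mono cons_le

theorem isOpen_cons_of_isOpen [PrespectralSpace X] {F : Set X} (hF : IsOpen F) :
    IsOpen[K[X]] F :=
  cons_le _ hF

theorem compactSpace_cons [SpectralSpace X] : @CompactSpace X K[X] :=
  @Function.Surjective.compactSpace (WithConstructibleTopology X) X _ K[X] _
    (WithTopology.continuous_ofTopology _) _ (WithTopology.ofTopology_surjective _)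

theorem t2Space_cons [PrespectralSpace X] [T0Space X] : @T2Space X K[X] := by
  refine @T2Space.mk X K[X] fun x y hxy => ?_
  obtain ⟨U, hUo, hU⟩ := exists_isOpen_xor_mem hxy
  rcases hU with ⟨hxU, hyU⟩ | ⟨hyU, hxU⟩
  · obtain ⟨V, ⟨hVo, hVc⟩, hxV, hVU⟩ :=
      (PrespectralSpace.isTopologicalBasis (X := X)).exists_subset_of_mem_open hxU hUo
    exact ⟨V, Vᶜ, isOpen_cons_of_qc hVo hVc, @IsClosed.isOpen_compl X K[X] _ (isClosed_cons_of_qc hVo hVc), hxV,
      fun h => hyU (hVU h), disjoint_compl_right⟩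
  · obtain ⟨V, ⟨hVo, hVc⟩, hyV, hVU⟩ :=
      (PrespectralSpace.isTopologicalBasis (X := X)).exists_subset_of_mem_open hyU hUo
    exact ⟨Vᶜ, V, @IsClosed.isOpen_compl X K[X] _ (isClosed_cons_of_qc hVo hVc), isOpen_cons_of_qc hVo hVc,
      fun h => hxU (hVU h), hyV, disjoint_compl_left⟩

theorem totallySeparatedSpace_cons [PrespectralSpace X] [T0Space X] :
    @TotallySeparatedSpace X K[X] := by
  refine (@totallySeparatedSpace_iff_exists_isClopen X K[X]).2 fun x y hxy => ?_
  obtain ⟨U, hUo, hU⟩ := exists_isOpen_xor_mem hxy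
  rcases hU with ⟨hxU, hyU⟩ | ⟨hyU, hxU⟩
  · obtain ⟨V, ⟨hVo, hVc⟩, hxV, hVU⟩ :=
      (PrespectralSpace.isTopologicalBasis (X := X)).exists_subset_of_mem_open hxU hUo
    exact ⟨V, ⟨isClosed_cons_of_qc hVo hVc, isOpen_cons_of_qc hVo hVc⟩, hxV, fun h => hyU (hVU h)⟩
  · obtain ⟨V, ⟨hVo, hVc⟩, hyV, hVU⟩ :=
      (PrespectralSpace.isTopologicalBasis (X := X)).exists_subset_of_mem_open hyU hUo
    exact ⟨Vᶜ, ⟨@IsOpen.isClosed_compl X K[X] _ (isOpen_cons_of_qc hVo hVc), @IsClosed.isOpen_compl X K[X] _ (isClosed_cons_of_qc hVo hVc)⟩,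
      fun h => hxU (hVU h), fun h => h hyV⟩

theorem isCompact_cons_of_isClosed_cons [SpectralSpace X] {E : Set X} (hE : IsClosed[K[X]] E) :
    @IsCompact X K[X] E :=
  @IsClosed.isCompact X K[X] E compactSpace_cons hE

theorem isCompact_of_isClosed_cons [SpectralSpace X] {E : Set X} (hE : IsClosed[K[X]] E) :
    IsCompact E := by
  exact isCompact_mono cons_le (isCompact_cons_of_isClosed_cons hE)

theorem isClosed_singleton_cons [PrespectralSpace X] [T0Space X] (x : X) :
    IsClosed[K[X]] ({x} : Set X) :=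
  @isClosed_singleton X K[X] (@T2Space.t1Space X K[X] t2Space_cons) x

theorem iInter_nonempty_cons [SpectralSpace X] {ι : Type v} (Z : ι → Set X)
    (hc : ∀ i, IsClosed[K[X]] (Z i)) (hfin : ∀ s : Finset ι, (⋂ i ∈ s, Z i).Nonempty) :
    (⋂ i, Z i).Nonempty :=
  @CompactSpace.iInter_nonempty X K[X] ι compactSpace_cons Z hc hfin

/-- Closed sets of the constructible topology that meet in an open set do so at a finite stage. -/
theorem exists_finset_subset_of_iInter_subset [SpectralSpace X] {ι : Type v} (Z : ι → Set X)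
    (hc : ∀ i, IsClosed[K[X]] (Z i)) {V : Set X} (hV : IsOpen[K[X]] V) (h : (⋂ i, Z i) ⊆ V) :
    ∃ s : Finset ι, (⋂ i ∈ s, Z i) ⊆ V := by
  obtain ⟨t, ht⟩ := @IsCompact.elim_finite_subfamily_closed X K[X] _ _
    (isCompact_cons_of_isClosed_cons (@IsOpen.isClosed_compl X K[X] _ hV)) Z hc (by rw [eq_empty_iff_forall_notMem]; exact fun x hx => hx.1 (h hx.2))
  exact ⟨t, fun x hx => by_contra fun hxV => eq_empty_iff_forall_notMem.1 ht x ⟨hxV, hx⟩⟩

theorem exists_specializes_of_mem_closure [SpectralSpace X] {E : Set X}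
    (hE : IsClosed[K[X]] E) {x : X} (hx : x ∈ closure E) : ∃ e ∈ E, e ⤳ x := by
  let ι := {U : Set X // IsOpen U ∧ IsCompact U ∧ x ∈ U}
  let Z : Option ι → Set X := fun o => o.elim E fun U => U.1
  have hne : (⋂ o, Z o).Nonempty := by
    refine iInter_nonempty_cons Z ?_ fun s => ?_
    · rintro (_ | ⟨U, hUo, hUc, hxU⟩)
      · exact hE
      · exact isClosed_cons_of_qc hUo hUc
    · obtain ⟨W, hW, hWo⟩ : ∃ W : Set X, (W = ⋂ U ∈ s.eraseNone, (U : ι).1) ∧ IsOpen W :=
        ⟨_, rfl, isOpen_biInter_finset fun U _ => U.2.1⟩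
      obtain ⟨e, heW, heE⟩ := mem_closure_iff.1 hx W hWo (hW ▸ mem_iInter₂.2 fun U _ => U.2.2.2)
      refine ⟨e, mem_iInter₂.2 fun o ho => ?_⟩
      cases o with
      | none => exact heE
      | some U => exact mem_iInter₂.1 (hW ▸ heW) U (Finset.mem_eraseNone.2 ho)
  obtain ⟨e, he⟩ := hne
  refine ⟨e, mem_iInter.1 he none, specializes_iff_forall_open.2 fun V hVo hxV => ?_⟩
  obtain ⟨U, ⟨hUo, hUc⟩, hxU, hUV⟩ :=
    (PrespectralSpace.isTopologicalBasis (X := X)).exists_subset_of_mem_open hxV hVo
  exact hUV (mem_iInter.1 he (some ⟨U, hUo, hUc, hxU⟩))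

theorem isClosed_of_stableUnderSpecialization [SpectralSpace X] {E : Set X}
    (hE : IsClosed[K[X]] E) (hs : StableUnderSpecialization E) : IsClosed E := by
  refine closure_subset_iff_isClosed.1 fun x hx => ?_
  obtain ⟨e, he, hex⟩ := exists_specializes_of_mem_closure hE hx
  exact hs hex he

theorem isOpen_of_stableUnderGeneralization [SpectralSpace X] {E : Set X}
    (hE : IsOpen[K[X]] E) (hs : StableUnderGeneralization E) : IsOpen E :=
  isClosed_compl_iff.1 <| isClosed_of_stableUnderSpecialization (@IsOpen.isClosed_compl X K[X] _ hE)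
    (fun a b hab ha hb => ha (hs hab hb))

/-- Criterion: a T0 topology coarser than a compact one, with a basis of sets closed in the latter,
is spectral. -/
theorem spectralSpace_of_compact [T0Space X] (t' : TopologicalSpace X) (hle : t' ≤ tX)
    (hcpt : @CompactSpace X t') (B : Set (Set X)) (hB : @IsTopologicalBasis X tX B)
    (hBc : ∀ U ∈ B, IsClosed[t'] U) : @SpectralSpace X tX := by
  letI := tX
  have hclosed : ∀ {E : Set X}, IsClosed[t'] E → IsCompact E :=
    fun hE => isCompact_of_compact_of_le hle hcpt hE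
  have hc : CompactSpace X := ⟨hclosed (@isClosed_univ X t')⟩
  have hp : PrespectralSpace X :=
    PrespectralSpace.of_isTopologicalBasis hB fun U hU => hclosed (hBc U hU)
  have hq : QuasiSeparatedSpace X :=
    QuasiSeparatedSpace.of_isTopologicalBasis (b := ((↑) : B → Set X)) (by simpa using hB)
      fun i j => hclosed (@IsClosed.inter X _ _ t' (hBc _ i.2) (hBc _ j.2))
  have hs : QuasiSober X := by
    refine ⟨fun {S} hS hSc => ?_⟩
    let ι := {U : Set X // U ∈ B ∧ (S ∩ U).Nonempty}
    let Z : Option ι → Set X := fun o => o.elim S fun U => U.1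
    have hne : (⋂ o, Z o).Nonempty := by
      refine @CompactSpace.iInter_nonempty X t' _ hcpt Z ?_ fun s => ?_
      · rintro (_ | ⟨U, hU, hSU⟩)
        · exact hSc.mono hle
        · exact hBc U hU
      · classical
        obtain ⟨e, heS, he⟩ := isIrreducible_iff_sInter.1 hS (s.eraseNone.image fun U : ι => U.1)
          (by
            intro V hV
            obtain ⟨U, _, rfl⟩ := Finset.mem_image.1 hV
            exact hB.isOpen U.2.1)
          (by
            intro V hV
            obtain ⟨U, _, rfl⟩ := Finset.mem_image.1 hV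
            exact U.2.2)
        refine ⟨e, mem_iInter₂.2 fun o ho => ?_⟩
        cases o with
        | none => exact heS
        | some U => exact mem_sInter.1 he _ (Finset.mem_coe.2 (Finset.mem_image.2 ⟨U, Finset.mem_eraseNone.2 ho, rfl⟩))
    obtain ⟨η, hη⟩ := hne
    refine ⟨η, isGenericPoint_iff_specializes.2 fun y => ⟨fun h => h.mem_closed hSc (mem_iInter.1 hη none), fun hy => ?_⟩⟩
    refine specializes_iff_forall_open.2 fun V hVo hyV => ?_
    obtain ⟨U, hU, hyU, hUV⟩ := hB.exists_subset_of_mem_open hyV hVo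
    exact hUV (mem_iInter.1 hη (some ⟨U, hU, y, hy, hyU⟩))
  constructor

/-- In the situation of the criterion, a compact open is closed in the finer topology. -/
theorem isClosed_of_isCompact_isOpen (t' : TopologicalSpace X) (B : Set (Set X))
    (hB : @IsTopologicalBasis X tX B) (hBc : ∀ U ∈ B, IsClosed[t'] U) {U : Set X}
    (hUo : IsOpen[tX] U) (hUc : @IsCompact X tX U) : IsClosed[t'] U := by
  letI := tX
  obtain ⟨S, hS, hSeq⟩ := hB.open_eq_sUnion hUo
  obtain ⟨T, hTS, hTf, hT⟩ := hUc.elim_finite_subcover_image (b := S) (c := id)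
    (fun s hs => hB.isOpen (hS hs)) (by rw [hSeq, sUnion_eq_biUnion]; rfl)
  have h2 : U = ⋃ i ∈ T, i := subset_antisymm hT
    (iUnion₂_subset fun i hi => hSeq ▸ subset_sUnion_of_mem (hTS hi))
  rw [h2]
  exact @Finite.isClosed_biUnion X _ t' _ _ hTf fun i hi => hBc i (hS (hTS hi))

theorem le_cons_of_basis (t' : TopologicalSpace X) (B : Set (Set X))
    (hB : @IsTopologicalBasis X tX B) (hBc : ∀ U ∈ B, IsClosed[t'] U) (hle : t' ≤ tX) :
    t' ≤ @constructibleTopology X tX := by
  letI := tX
  refine le_generateFrom ?_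
  rintro s (⟨ho, hc⟩ | ⟨hcl, hc⟩)
  · exact hle _ ho
  · have h := @IsClosed.isOpen_compl X t' _ (isClosed_of_isCompact_isOpen t' B hB hBc hcl.isOpen_compl hc)
    rwa [compl_compl] at h

/-- In the situation of the criterion, the finer topology is the constructible one. -/
theorem cons_eq_of_basis [T0Space X] (t' : TopologicalSpace X) (hle : t' ≤ tX)
    (hcpt : @CompactSpace X t') (B : Set (Set X)) (hB : @IsTopologicalBasis X tX B)
    (hBc : ∀ U ∈ B, IsClosed[t'] U) : @constructibleTopology X tX = t' := by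
  letI := tX
  have := spectralSpace_of_compact t' hle hcpt B hB hBc
  have h1 : t' ≤ K[X] := le_cons_of_basis t' B hB hBc hle
  refine le_antisymm ?_ h1
  intro U hU
  have h2 : @IsCompact X K[X] Uᶜ :=
    isCompact_of_compact_of_le h1 hcpt (@IsOpen.isClosed_compl X t' _ hU)
  exact (@isClosed_compl_iff X K[X] U).1 (@IsCompact.isClosed X K[X] t2Space_cons _ h2)

theorem spectralSpace_of_isClosed_cons [SpectralSpace X] {E : Set X} (hE : IsClosed[K[X]] E) :
    SpectralSpace E ∧ constructibleTopology E = K[X].induced (Subtype.val : E → X) := by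
  have hle : K[X].induced (Subtype.val : E → X) ≤ instTopologicalSpaceSubtype :=
    induced_mono cons_le
  have hcpt : @CompactSpace E (K[X].induced Subtype.val) :=
    (@isCompact_iff_compactSpace X K[X] E).1 (isCompact_cons_of_isClosed_cons hE)
  have hB := (PrespectralSpace.isTopologicalBasis (X := X)).isInducing
    (IsInducing.subtypeVal (t := E))
  have hBc : ∀ U ∈ image (preimage (Subtype.val : E → X)) {U | IsOpen U ∧ IsCompact U},
      IsClosed[K[X].induced (Subtype.val : E → X)] U := by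
    rintro _ ⟨U, ⟨ho, hc⟩, rfl⟩
    exact @isClosed_induced_iff _ _ K[X] _ _ |>.2 ⟨U, isClosed_cons_of_qc ho hc, rfl⟩
  exact ⟨spectralSpace_of_compact _ hle hcpt _ hB hBc, cons_eq_of_basis _ hle hcpt _ hB hBc⟩

theorem isConstructible_cons_isClopen [SpectralSpace X] {E : Set X} (hE : IsConstructible E) :
    @IsClopen X K[X] E := by
  induction hE using IsConstructible.empty_union_induction with
  | open_retrocompact U ho hc =>
    exact ⟨isClosed_cons_of_qc ho hc.isCompact, isOpen_cons_of_qc ho hc.isCompact⟩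
  | union s hs t ht h1 h2 => exact @IsClopen.union X K[X] _ _ h1 h2
  | compl s hs h => exact @IsClopen.compl X K[X] _ h

theorem isConstructible_of_isClopen_cons [SpectralSpace X] {E : Set X}
    (hE : @IsClopen X K[X] E) : IsConstructible E := by
  have hbas := @TopologicalSpace.isTopologicalBasis_of_subbasis X K[X] _ rfl
  obtain ⟨S, hS, hSeq⟩ := @IsTopologicalBasis.open_eq_sUnion X K[X] _ hbas E hE.2
  obtain ⟨T, hTS, hTf, hT⟩ := @IsCompact.elim_finite_subcover_image X _ K[X] E S id
    (isCompact_cons_of_isClosed_cons hE.1) (fun s hs => @IsTopologicalBasis.isOpen X K[X] _ _ hbas (hS hs)) (by rw [hSeq, sUnion_eq_biUnion]; rfl)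
  have : E = ⋃ i ∈ T, i := subset_antisymm hT
    (iUnion₂_subset fun i hi => hSeq ▸ subset_sUnion_of_mem (hTS hi))
  rw [this]
  refine IsConstructible.biUnion hTf fun i hi => ?_
  obtain ⟨f, ⟨hff, hfs⟩, rfl⟩ := hS (hTS hi)
  refine IsConstructible.sInter hff fun s hs => ?_
  rcases hfs hs with ⟨ho, hc⟩ | ⟨hcl, hc⟩
  · exact hc.isConstructible ho
  · exact isConstructible_compl.1 (hc.isConstructible hcl.isOpen_compl)

theorem quasiSober_pi {ι : Type v} {Y : ι → Type u} [∀ i, TopologicalSpace (Y i)]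
    [∀ i, QuasiSober (Y i)] : QuasiSober (∀ i, Y i) := by
  refine ⟨fun {S} hS hSc => ?_⟩
  have hirr : ∀ i, IsIrreducible (closure ((fun p : ∀ i, Y i => p i) '' S)) :=
    fun i => (hS.image _ (continuous_apply i).continuousOn).closure
  choose g hg using fun i => QuasiSober.sober (hirr i) isClosed_closure
  have hopen : ∀ (i : ι) (U : Set (Y i)), IsOpen U → (g i ∈ U ↔ ∃ p ∈ S, p i ∈ U) := by
    intro i U hU
    rw [(hg i).mem_open_set_iff hU, closure_inter_open_nonempty_iff hU]
    constructor
    · rintro ⟨_, ⟨p, hp, rfl⟩, h⟩; exact ⟨p, hp, h⟩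
    · rintro ⟨p, hp, h⟩; exact ⟨_, ⟨p, hp, rfl⟩, h⟩
  have hgS : g ∈ S := by
    rw [← hSc.closure_eq, mem_closure_iff]
    intro O hO hgO
    classical
    obtain ⟨I, U, hU, hsub⟩ := isOpen_pi_iff.1 hO g hgO
    obtain ⟨p, hpS, hp⟩ := isIrreducible_iff_sInter.1 hS
      (I.image fun i => (fun p : ∀ i, Y i => p i) ⁻¹' U i)
      (by
        intro V hV
        obtain ⟨i, hi, rfl⟩ := Finset.mem_image.1 hV
        exact (hU i hi).1.preimage (continuous_apply i))
      (by
        intro V hV
        obtain ⟨i, hi, rfl⟩ := Finset.mem_image.1 hV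
        exact (hopen i _ (hU i hi).1).1 (hU i hi).2)
    exact ⟨p, hsub fun i hi => mem_sInter.1 hp _ (by simpa using ⟨i, hi, rfl⟩), hpS⟩
  refine ⟨g, isGenericPoint_iff_specializes.2 fun p => ⟨fun h => h.mem_closed hSc hgS, fun hp => ?_⟩⟩
  exact specializes_pi.2 fun i => (hg i).specializes (subset_closure ⟨p, hp, rfl⟩)

end Groth.Agent.SpecSp50
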