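import Groth.Agent.SpecSp50.Basic
import Mathlib.Topology.Order
import Mathlib.Order.RelClasses

/-! Spectral maps, products and further properties of spectral spaces. -/

set_option autoImplicit false
set_option linter.unusedVariables false
set_option linter.unusedSectionVars false
set_option linter.style.haveILetI false

universe u v w

open Set Topology TopologicalSpace

namespace Groth.Agent.SpecSp50

variable {X : Type u} {Y : Type v} [tX : TopologicalSpace X] [tY : TopologicalSpace Y]

theorem continuous_cons_of_isSpectralMap {f : X → Y} (hf : IsSpectralMap f) :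
    @Continuous X Y (constructibleTopology X) (constructibleTopology Y) f := by
  refine continuous_generateFrom_iff.2 ?_
  rintro s (⟨ho, hc⟩ | ⟨hcl, hc⟩)
  · exact TopologicalSpace.isOpen_generateFrom_of_mem
      (.inl ⟨ho.preimage hf.continuous, hf.isCompact_preimage_of_isOpen ho hc⟩)
  · exact TopologicalSpace.isOpen_generateFrom_of_mem
      (.inr ⟨hcl.preimage hf.continuous, hf.isCompact_preimage_of_isOpen hcl.isOpen_compl hc⟩)

theorem isSpectralMap_of_continuous_cons [SpectralSpace X] {f : X → Y} (hf : Continuous f)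
    (hf' : @Continuous X Y (constructibleTopology X) (constructibleTopology Y) f) :
    IsSpectralMap f :=
  ⟨hf, fun s ho hc => isCompact_of_isClosed_cons
    (@IsClosed.preimage X Y (constructibleTopology X) (constructibleTopology Y) f hf' s
      (isClosed_cons_of_qc ho hc))⟩

theorem isClosed_range_cons [SpectralSpace X] [SpectralSpace Y] {f : X → Y} (hf : IsSpectralMap f) :
    @IsClosed Y (constructibleTopology Y) (range f) := by
  have h := @IsCompact.image X Y (constructibleTopology X) (constructibleTopology Y) univ f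
    (@isCompact_univ X (constructibleTopology X) compactSpace_cons)
    (continuous_cons_of_isSpectralMap hf)
  rw [image_univ] at h
  exact @IsCompact.isClosed Y (constructibleTopology Y) t2Space_cons _ h

theorem isCompact_fibre [SpectralSpace X] [SpectralSpace Y] {f : X → Y} (hf : IsSpectralMap f)
    (y : Y) : IsCompact (f ⁻¹' {y}) :=
  isCompact_of_isClosed_cons (@IsClosed.preimage X Y (constructibleTopology X)
    (constructibleTopology Y) f (continuous_cons_of_isSpectralMap hf) _ (isClosed_singleton_cons y))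

/-- A point with a quasi-compact open neighbourhood data: separation by opens or common generalization. -/
theorem exists_common_generalization_or_disjoint [SpectralSpace X] (x y : X) :
    (∃ z : X, z ⤳ x ∧ z ⤳ y) ∨
    (∃ U V : Set X, IsOpen U ∧ IsOpen V ∧ x ∈ U ∧ y ∈ V ∧ Disjoint U V) := by
  classical
  let ι := {U : Set X // IsOpen U ∧ IsCompact U ∧ (x ∈ U ∨ y ∈ U)}
  by_cases h : (⋂ U : ι, U.1).Nonempty
  · left
    obtain ⟨z, hz⟩ := h
    refine ⟨z, ?_, ?_⟩ <;> refine specializes_iff_forall_open.2 fun V hVo hV => ?_ <;>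
      obtain ⟨U, ⟨hUo, hUc⟩, hU, hUV⟩ :=
        (PrespectralSpace.isTopologicalBasis (X := X)).exists_subset_of_mem_open hV hVo
    · exact hUV (mem_iInter.1 hz ⟨U, hUo, hUc, .inl hU⟩)
    · exact hUV (mem_iInter.1 hz ⟨U, hUo, hUc, .inr hU⟩)
  · right
    have h0 : (⋂ U : ι, U.1) ⊆ (∅ : Set X) := fun z hz => (h ⟨z, hz⟩).elim
    obtain ⟨s, hs⟩ := exists_finset_subset_of_iInter_subset (V := (∅ : Set X)) (fun U : ι => U.1)
      (fun U => isClosed_cons_of_qc U.2.1 U.2.2.1) (@isOpen_empty X (constructibleTopology X)) h0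
    let A : Set ι := {U | U ∈ s ∧ x ∈ U.1}
    let B : Set ι := {U | U ∈ s ∧ x ∉ U.1}
    have hA : A.Finite := s.finite_toSet.subset fun U hU => hU.1
    have hB : B.Finite := s.finite_toSet.subset fun U hU => hU.1
    have hAo : IsOpen (⋂ U ∈ A, U.1) := hA.isOpen_biInter fun U _ => U.2.1
    have hBo : IsOpen (⋂ U ∈ B, U.1) := hB.isOpen_biInter fun U _ => U.2.1
    have hAx : x ∈ ⋂ U ∈ A, U.1 := mem_iInter₂.2 fun U hU => hU.2
    have hBy : y ∈ ⋂ U ∈ B, U.1 := mem_iInter₂.2 fun U hU => U.2.2.2.resolve_left hU.2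
    refine ⟨_, _, hAo, hBo, hAx, hBy, Set.disjoint_left.2 fun z hz hz' => ?_⟩
    suffices hm : z ∈ ⋂ U ∈ s, U.1 from hs hm
    refine mem_iInter₂.2 fun U hU => ?_
    by_cases hxU : x ∈ U.1
    · exact mem_iInter₂.1 hz U ⟨hU, hxU⟩
    · exact mem_iInter₂.1 hz' U ⟨hU, hxU⟩

theorem profinite_tfae (X : Type u) [tX : TopologicalSpace X] [SpectralSpace X] :
    List.TFAE [
      T2Space X ∧ TotallyDisconnectedSpace X,
      T2Space X,
      TotallyDisconnectedSpace X,
      ∀ U : Set X, IsOpen U → IsCompact U → IsClosed U,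
      ∀ x y : X, x ⤳ y → x = y,
      ∀ x : X, IsClosed ({x} : Set X),
      ∀ x : X, closure ({x} : Set X) ∈ irreducibleComponents X,
      constructibleTopology X = tX] := by
  tfae_have 1 → 2 := And.left
  tfae_have 1 → 3 := And.right
  tfae_have 2 → 5 := fun h x y hxy => hxy.eq
  tfae_have 3 → 5 := by
    intro h x y hxy
    have hyx : y ∈ closure ({x} : Set X) := specializes_iff_mem_closure.1 hxy
    exact ((isPreirreducible_singleton.closure.isPreconnected.subsingleton)
      (subset_closure rfl) hyx)
  tfae_have 5 → 6 := fun h x => closure_subset_iff_isClosed.1 fun y hy =>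
    (h x y (specializes_iff_mem_closure.2 hy)).symm
  tfae_have 6 → 7 := by
    intro h x
    rw [(h x).closure_eq]
    refine ⟨isIrreducible_singleton, fun Z hZ hxZ y hy => ?_⟩
    obtain ⟨z, hz⟩ := QuasiSober.sober hZ.closure isClosed_closure
    have e1 : closure ({z} : Set X) = {z} := (h z).closure_eq
    have e2 : closure Z = {z} := hz.symm.trans e1
    have hx' : x ∈ ({z} : Set X) := e2 ▸ subset_closure (hxZ rfl)
    have hy' : y ∈ ({z} : Set X) := e2 ▸ subset_closure hy
    exact (mem_singleton_iff.1 hy').trans (mem_singleton_iff.1 hx').symm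
  tfae_have 7 → 5 := by
    intro h x y hxy
    have hsub : closure ({y} : Set X) ⊆ closure {x} :=
      closure_minimal (singleton_subset_iff.2 (specializes_iff_mem_closure.1 hxy)) isClosed_closure
    have heq : closure ({x} : Set X) ⊆ closure {y} := (h y).2 (h x).1 hsub
    exact hxy.antisymm (specializes_iff_mem_closure.2 (heq (subset_closure rfl))) |>.eq
  tfae_have 5 → 4 := fun h U hUo hUc =>
    isClosed_of_stableUnderSpecialization (isClosed_cons_of_qc hUo hUc)
      (fun a b hab ha => h a b hab ▸ ha)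
  tfae_have 4 → 8 := by
    intro h
    refine le_antisymm cons_le (le_generateFrom ?_)
    rintro s (⟨ho, hc⟩ | ⟨hcl, hc⟩)
    · exact ho
    · exact isClosed_compl_iff.1 (h _ hcl.isOpen_compl hc)
  tfae_have 8 → 1 := by
    intro h
    have h1 : @T2Space X (constructibleTopology X) := t2Space_cons
    have h2 : @TotallySeparatedSpace X (constructibleTopology X) := totallySeparatedSpace_cons
    rw [h] at h1 h2
    exact ⟨h1, inferInstance⟩
  tfae_finish

theorem spectralSpace_prod [SpectralSpace X] [SpectralSpace Y] : SpectralSpace (X × Y) := by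
  refine spectralSpace_of_compact
    (@instTopologicalSpaceProd X Y (constructibleTopology X) (constructibleTopology Y))
    (inf_le_inf (induced_mono cons_le) (induced_mono cons_le)) ?_
    (image2 (· ×ˢ ·) {U : Set X | IsOpen U ∧ IsCompact U} {V : Set Y | IsOpen V ∧ IsCompact V})
    ((PrespectralSpace.isTopologicalBasis (X := X)).prod PrespectralSpace.isTopologicalBasis) ?_
  · exact @instCompactSpaceProd X Y (constructibleTopology X) (constructibleTopology Y)
      compactSpace_cons compactSpace_cons
  · rintro _ ⟨U, ⟨hUo, hUc⟩, V, ⟨hVo, hVc⟩, rfl⟩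
    exact @IsClosed.prod X Y (constructibleTopology X) (constructibleTopology Y) _ _
      (isClosed_cons_of_qc hUo hUc) (isClosed_cons_of_qc hVo hVc)

theorem isHomeomorph_of_bijective [SpectralSpace X] [SpectralSpace Y] {f : X → Y}
    (hf : IsSpectralMap f) (hb : Function.Bijective f)
    (hlift : GeneralizingMap f ∨ SpecializingMap f) : IsHomeomorph f := by
  have hc := continuous_cons_of_isSpectralMap hf
  have himg : ∀ {E : Set X}, @IsClosed X (constructibleTopology X) E →
      @IsClosed Y (constructibleTopology Y) (f '' E) := fun hE =>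
    @IsCompact.isClosed Y (constructibleTopology Y) t2Space_cons _
      (@IsCompact.image X Y (constructibleTopology X) (constructibleTopology Y) _ f
        (isCompact_cons_of_isClosed_cons hE) hc)
  refine ⟨hf.continuous, fun U hU => ?_, hb⟩
  rw [(PrespectralSpace.isTopologicalBasis (X := X)).open_eq_sUnion' hU, sUnion_eq_biUnion,
    image_iUnion₂]
  refine isOpen_biUnion fun V hV => ?_
  obtain ⟨⟨hVo, hVc⟩, -⟩ := hV
  have hcompl : f '' Vᶜ = (f '' V)ᶜ := image_compl_eq hb
  have hopen : @IsOpen Y (constructibleTopology Y) (f '' V) := by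
    refine (@isClosed_compl_iff Y (constructibleTopology Y) _).1 (hcompl ▸ himg ?_)
    exact isClosed_cons_of_isClosed hVo.isClosed_compl
  rcases hlift with hg | hs
  · exact isOpen_of_stableUnderGeneralization hopen (hVo.stableUnderGeneralization.image hg)
  · refine isClosed_compl_iff.1 (hcompl ▸ isClosed_of_stableUnderSpecialization
      (himg (isClosed_cons_of_isClosed hVo.isClosed_compl)) ?_)
    exact hVo.isClosed_compl.stableUnderSpecialization.image hs

theorem spectralSpace_pi {ι : Type w} (Z : ι → Type u) [∀ i, TopologicalSpace (Z i)]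
    [∀ i, SpectralSpace (Z i)] :
    SpectralSpace (∀ i, Z i) ∧ constructibleTopology (∀ i, Z i) =
      @Pi.topologicalSpace ι Z (fun i => constructibleTopology (Z i)) := by
  have hle : @Pi.topologicalSpace ι Z (fun i => constructibleTopology (Z i)) ≤
      Pi.topologicalSpace := iInf_mono fun i => induced_mono cons_le
  have hcpt : @CompactSpace (∀ i, Z i) (@Pi.topologicalSpace ι Z (fun i => constructibleTopology (Z i))) :=
    @Pi.compactSpace ι Z (fun i => constructibleTopology (Z i)) (fun i => compactSpace_cons)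
  have hB := isTopologicalBasis_pi (fun i => PrespectralSpace.isTopologicalBasis (X := Z i))
  have hBc : ∀ S ∈ {S : Set (∀ i, Z i) | ∃ (U : ∀ i, Set (Z i)) (F : Finset ι),
      (∀ i, i ∈ F → U i ∈ {U : Set (Z i) | IsOpen U ∧ IsCompact U}) ∧ S = (F : Set ι).pi U},
      @IsClosed _ (@Pi.topologicalSpace ι Z (fun i => constructibleTopology (Z i))) S := by
    rintro _ ⟨U, F, hU, rfl⟩
    exact @isClosed_set_pi ι Z (fun i => constructibleTopology (Z i)) _ _
      fun i hi => isClosed_cons_of_qc (hU i hi).1 (hU i hi).2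
  exact ⟨spectralSpace_of_compact _ hle hcpt _ hB hBc, cons_eq_of_basis _ hle hcpt _ hB hBc⟩

theorem spectralSpace_of_finite (X : Type u) [TopologicalSpace X] [Finite X] [T0Space X] :
    SpectralSpace X :=
  spectralSpace_of_compact ⊥ bot_le (@Finite.compactSpace X ⊥ _) {U | IsOpen U}
    isTopologicalBasis_opens (fun U _ => (@isOpen_compl_iff X U ⊥).1 trivial)

theorem t0Space_prop : T0Space Prop :=
  (t0Space_iff_exists_isOpen_xor_mem _).2 fun p q hpq => ⟨{True}, isOpen_singleton_true, by
    by_cases hp : p <;> by_cases hq : q <;> simp_all [Xor]⟩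

theorem spectralSpace_prop : SpectralSpace Prop :=
  @spectralSpace_of_finite Prop _ _ t0Space_prop

theorem spectralSpace_of_embedding_pi_sierpinski {I : Type u} {f : X → (I → Prop)}
    (hf : IsEmbedding f) (hr : @IsClosed (I → Prop) (constructibleTopology (I → Prop)) (range f)) :
    SpectralSpace X := by
  have : SpectralSpace Prop := spectralSpace_prop
  have : SpectralSpace (I → Prop) := (spectralSpace_pi fun _ : I => Prop).1
  have := (spectralSpace_of_isClosed_cons hr).1
  have : CompactSpace X := hf.toHomeomorph.symm.compactSpace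
  exact hf.toHomeomorph.isOpenEmbedding.spectralSpace

theorem exists_embedding_pi_sierpinski [SpectralSpace X] :
    ∃ (I : Type u) (f : X → (I → Prop)),
      IsEmbedding f ∧ @IsClosed (I → Prop) (constructibleTopology (I → Prop)) (range f) := by
  let I := {U : Set X // IsOpen U ∧ IsCompact U}
  let f : X → (I → Prop) := fun x U => x ∈ U.1
  have hcont : Continuous f := continuous_pi fun U => isOpen_iff_continuous_mem.1 U.2.1
  have hind : IsInducing f := by
    refine ⟨le_antisymm hcont.le_induced ?_⟩
    intro U hU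
    rw [(PrespectralSpace.isTopologicalBasis (X := X)).open_eq_sUnion' hU]
    refine @isOpen_sUnion X (Pi.topologicalSpace.induced f) _ fun V hV => ?_
    exact isOpen_induced_iff.2 ⟨(fun p : I → Prop => p ⟨V, hV.1⟩) ⁻¹' {True},
      isOpen_singleton_true.preimage (continuous_apply _), by ext x; simp [f]⟩
  have : SpectralSpace Prop := spectralSpace_prop
  have hpi := spectralSpace_pi fun _ : I => Prop
  have := hpi.1
  refine ⟨I, f, hind.isEmbedding, isClosed_range_cons (isSpectralMap_of_continuous_cons hcont ?_)⟩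
  rw [hpi.2]
  refine @continuous_pi X I (fun _ => Prop) (constructibleTopology X) (fun _ => constructibleTopology Prop) f fun U => ?_
  refine continuous_cons_of_isSpectralMap ⟨isOpen_iff_continuous_mem.1 U.2.1, fun s hs _ => ?_⟩
  by_cases h1 : False ∈ s
  · have h0 := hs.mem_nhds h1
    rw [nhds_false, Filter.mem_top] at h0
    simp [h0, isCompact_univ]
  · by_cases h2 : True ∈ s
    · have : s = {True} := by
        ext p; by_cases hp : p <;> simp [hp, h1, h2]
      rw [this]
      simpa [f, preimage, mem_singleton_iff] using U.2.2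
    · have : s = ∅ := by ext p; by_cases hp : p <;> simp [hp, h1, h2]
      simp [this]

theorem eq_sInter_qc_of_isCompact [SpectralSpace X] {E : Set X} (hE : IsCompact E) :
    {x | ∃ e ∈ E, x ⤳ e} = ⋂₀ {U : Set X | IsOpen U ∧ IsCompact U ∧ E ⊆ U} := by
  refine subset_antisymm ?_ fun x hx => ?_
  · rintro x ⟨e, he, hxe⟩ U ⟨hUo, -, hEU⟩
    exact hxe.mem_open hUo (hEU he)
  · by_contra hne
    have h : ∀ e ∈ E, ∃ U : Set X, (IsOpen U ∧ IsCompact U) ∧ e ∈ U ∧ x ∉ U := by
      intro e he
      have : ¬ x ⤳ e := fun h => hne ⟨e, he, h⟩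
      rw [specializes_iff_forall_open] at this
      push Not at this
      obtain ⟨V, hVo, heV, hxV⟩ := this
      obtain ⟨U, hU, heU, hUV⟩ :=
        (PrespectralSpace.isTopologicalBasis (X := X)).exists_subset_of_mem_open heV hVo
      exact ⟨U, hU, heU, fun hx => hxV (hUV hx)⟩
    choose U hU heU hxU using h
    obtain ⟨t, ht⟩ := hE.elim_finite_subcover (fun e : E => U e.1 e.2) (fun e => (hU e.1 e.2).1)
      fun e he => mem_iUnion.2 ⟨⟨e, he⟩, heU e he⟩
    have hmem := hx (⋃ e ∈ t, U e.1 e.2) ⟨isOpen_biUnion fun e _ => (hU e.1 e.2).1,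
      t.isCompact_biUnion fun e _ => (hU e.1 e.2).2, ht⟩
    obtain ⟨e, _, he⟩ := mem_iUnion₂.1 hmem
    exact hxU e.1 e.2 he

theorem isClosed_cons_genHull [SpectralSpace X] {E : Set X} (hE : IsCompact E) :
    @IsClosed X (constructibleTopology X) {x | ∃ e ∈ E, x ⤳ e} := by
  rw [eq_sInter_qc_of_isCompact hE]
  exact @isClosed_sInter X (constructibleTopology X) _ fun U hU => isClosed_cons_of_qc hU.1 hU.2.1

theorem generalization_tfae [SpectralSpace X] (W : Set X) :
    List.TFAE [
      (∃ S : Set (Set X), (∀ s ∈ S, IsConstructible s) ∧ W = ⋂₀ S) ∧ StableUnderGeneralization W,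
      IsCompact W ∧ StableUnderGeneralization W,
      ∃ E : Set X, IsCompact E ∧ W = {x | ∃ e ∈ E, x ⤳ e},
      ∃ S : Set (Set X), (∀ s ∈ S, IsOpen s ∧ IsCompact s) ∧ W = ⋂₀ S,
      ∃ (I : Type u) (_ : Nonempty I) (U : I → Set X), (∀ i, IsOpen (U i) ∧ IsCompact (U i)) ∧
        W = ⋂ i, U i ∧ ∀ i j, ∃ k, U k ⊆ U i ∩ U j] := by
  tfae_have 1 → 2 := by
    rintro ⟨⟨S, hS, rfl⟩, hgen⟩
    exact ⟨isCompact_of_isClosed_cons (@isClosed_sInter X (constructibleTopology X) _
      fun s hs => (isConstructible_cons_isClopen (hS s hs)).1), hgen⟩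
  tfae_have 2 → 3 := fun ⟨hc, hgen⟩ => ⟨W, hc,
    subset_antisymm (fun x hx => ⟨x, hx, specializes_rfl⟩) (by rintro x ⟨e, he, hxe⟩; exact hgen hxe he)⟩
  tfae_have 3 → 4 := by
    rintro ⟨E, hE, rfl⟩
    exact ⟨{U : Set X | IsOpen U ∧ IsCompact U ∧ E ⊆ U}, fun s hs => ⟨hs.1, hs.2.1⟩,
      eq_sInter_qc_of_isCompact hE⟩
  tfae_have 4 → 5 := by
    rintro ⟨S, hS, rfl⟩
    classical
    refine ⟨Finset {U : Set X // U ∈ S}, inferInstance, fun F => ⋂ U ∈ F, U.1, fun F => ?_, ?_, ?_⟩
    · show IsOpen (⋂ U ∈ F, U.1) ∧ IsCompact (⋂ U ∈ F, U.1)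
      induction F using Finset.induction_on with
      | empty => simp [isOpen_univ, isCompact_univ]
      | insert a F ha ih =>
        rw [Finset.set_biInter_insert]
        exact ⟨(hS _ a.2).1.inter ih.1, (hS _ a.2).2.inter_of_isOpen ih.2 (hS _ a.2).1 ih.1⟩
    · ext x
      simp only [mem_sInter, mem_iInter]
      exact ⟨fun h F U _ => h U.1 U.2, fun h U hU => h {⟨U, hU⟩} ⟨U, hU⟩ (Finset.mem_singleton_self _)⟩
    · intro F G
      refine ⟨F ∪ G, fun x hx => ?_⟩
      simp only [mem_iInter, Finset.mem_union] at hx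
      exact ⟨mem_iInter₂.2 fun U hU => hx U (.inl hU), mem_iInter₂.2 fun U hU => hx U (.inr hU)⟩
  tfae_have 5 → 1 := by
    rintro ⟨I, _, U, hU, rfl, -⟩
    refine ⟨⟨range U, ?_, (sInter_range U).symm⟩, ?_⟩
    · rintro _ ⟨i, rfl⟩
      exact (hU i).2.isConstructible (hU i).1
    · exact fun a b hab ha => mem_iInter.2 fun i => hab.mem_open (hU i).1 (mem_iInter.1 ha i)
  tfae_finish

theorem exists_subset_open_of_directed [SpectralSpace X] {I : Type w} [Nonempty I] (U : I → Set X)
    (hU : ∀ i, IsOpen (U i) ∧ IsCompact (U i)) (hdir : ∀ i j, ∃ k, U k ⊆ U i ∩ U j) {V : Set X}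
    (hV : IsOpen V) (h : (⋂ i, U i) ⊆ V) : ∃ i, U i ⊆ V := by
  obtain ⟨s, hs⟩ := exists_finset_subset_of_iInter_subset U
    (fun i => isClosed_cons_of_qc (hU i).1 (hU i).2) (isOpen_cons_of_isOpen hV) h
  have : Directed (· ⊇ ·) U := fun i j =>
    let ⟨k, hk⟩ := hdir i j; ⟨k, hk.trans inter_subset_left, hk.trans inter_subset_right⟩
  obtain ⟨k, hk⟩ := this.finset_le s
  exact ⟨k, fun x hx => hs (mem_iInter₂.2 fun i hi => hk i hi hx)⟩

theorem spectralSpace_specializing_locus_diff [SpectralSpace X] {E : Set X}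
    (hE : IsConstructible E) : SpectralSpace ↥({x : X | ∃ e ∈ E, x ⤳ e} \ E) := by
  have hcl := isConstructible_cons_isClopen hE
  exact (spectralSpace_of_isClosed_cons (@IsClosed.inter X _ _ (constructibleTopology X)
    (isClosed_cons_genHull (isCompact_of_isClosed_cons hcl.1))
    (@IsOpen.isClosed_compl X (constructibleTopology X) _ hcl.2))).1

theorem t2_totallyDisconnected_withConstructibleTopology [SpectralSpace X] :
    T2Space (WithConstructibleTopology X) ∧ TotallyDisconnectedSpace (WithConstructibleTopology X) := by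
  let e := fun x : WithConstructibleTopology X => x.ofTopology
  have hc : @Continuous _ X _ (constructibleTopology X) e := WithTopology.continuous_ofTopology _
  refine ⟨@T2Space.of_injective_continuous _ X _ (constructibleTopology X) t2Space_cons e
    (WithTopology.ofTopology_injective _) hc, ⟨fun t _ ht => ?_⟩⟩
  have h1 : @TotallySeparatedSpace X (constructibleTopology X) := totallySeparatedSpace_cons
  have h2 : @TotallyDisconnectedSpace X (constructibleTopology X) :=
    @TotallySeparatedSpace.totallyDisconnectedSpace X (constructibleTopology X) h1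
  have h3 := (@TotallyDisconnectedSpace.isTotallyDisconnected_univ X (constructibleTopology X) h2)
    (e '' t) (subset_univ _) (@IsPreconnected.image _ _ _ (constructibleTopology X) t ht e (@Continuous.continuousOn _ X _ (constructibleTopology X) e _ hc))
  exact fun a ha b hb => WithTopology.ofTopology_injective _ (h3 ⟨a, ha, rfl⟩ ⟨b, hb, rfl⟩)

end Groth.Agent.SpecSp50
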