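import Groth.Agent.SpecSp50.Limits
import Mathlib.CategoryTheory.Category.Preorder
import Mathlib.CategoryTheory.Filtered.Basic
import Mathlib.Order.Directed

/-! Spectral spaces as limits of finite sober spaces. -/

set_option autoImplicit false
set_option linter.unusedVariables false
set_option linter.unusedSectionVars false
set_option linter.style.haveILetI false

universe u

open Set Topology TopologicalSpace CategoryTheory CategoryTheory.Limits Opposite

namespace Groth.Agent.SpecSp50

variable (X : Type u) [TopologicalSpace X]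

/-- Quasi-compact open subsets. -/
abbrev QC : Type u := {U : Set X // IsOpen U ∧ IsCompact U}

/-- The membership vector of a point for a finite set of quasi-compact opens. -/
def vec (S : Finset (QC X)) (x : X) : ↥S → Prop := fun U => x ∈ U.1.1

/-- The finite approximation of a space attached to a finite set of quasi-compact opens. -/
abbrev approxObj (S : Finset (QC X)) : Type u := range (vec X S)

/-- Restriction between finite approximations. -/
def approxMap {S T : Finset (QC X)} (h : S ⊆ T) (p : approxObj X T) : approxObj X S :=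
  ⟨fun U => p.1 ⟨U.1, h U.2⟩, by
    obtain ⟨x, hx⟩ := p.2
    exact ⟨x, by rw [← hx]; rfl⟩⟩

theorem continuous_approxMap {S T : Finset (QC X)} (h : S ⊆ T) : Continuous (approxMap X h) := by
  unfold approxMap
  refine Continuous.subtype_mk (continuous_pi fun (U : ↥S) => ?_) _
  exact (continuous_apply (A := fun _ : ↥T => Prop) ⟨U.1, h U.2⟩).comp continuous_subtype_val

/-- The diagram of finite approximations. -/
def approxFunctor : (Finset (QC X))ᵒᵖ ⥤ TopCat.{u} where
  obj S := TopCat.of (approxObj X S.unop)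
  map {S T} f := TopCat.ofHom ⟨approxMap X (leOfHom f.unop), continuous_approxMap X _⟩
  map_id _ := rfl
  map_comp _ _ := rfl

@[simp]
theorem approxFunctor_obj (S : (Finset (QC X))ᵒᵖ) :
    (approxFunctor X).obj S = TopCat.of (approxObj X S.unop) := rfl

theorem approx_props (S : (Finset (QC X))ᵒᵖ) :
    Finite ((approxFunctor X).obj S) ∧ T0Space ((approxFunctor X).obj S) ∧
      QuasiSober ((approxFunctor X).obj S) := by
  have : T0Space Prop := t0Space_prop
  have h1 : Finite (approxObj X S.unop) := inferInstance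
  have h2 : T0Space (approxObj X S.unop) := inferInstance
  rw [approxFunctor_obj]
  exact ⟨h1, h2, (spectralSpace_of_finite (approxObj X S.unop)).toQuasiSober⟩

theorem exists_isLimit_finite_sober [SpectralSpace X] :
    ∃ (J : Type u) (_ : Preorder J) (_ : Nonempty J) (_ : IsDirected J (· ≤ ·)) (F : Jᵒᵖ ⥤ TopCat.{u})
      (c : Cone F), Nonempty (IsLimit c) ∧
        (∀ j : Jᵒᵖ, Finite (F.obj j) ∧ T0Space (F.obj j) ∧ QuasiSober (F.obj j)) ∧
        Nonempty (c.pt ≅ TopCat.of X) := by
  classical
  refine ⟨Finset (QC X), inferInstance, ⟨∅⟩, inferInstance, approxFunctor X,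
    TopCat.limitCone.{u, u} (approxFunctor X), ⟨TopCat.limitConeIsLimit.{u, u} _⟩, approx_props X,
    ⟨Iso.symm ?_⟩⟩
  let g : X → {u : ∀ S : (Finset (QC X))ᵒᵖ, (approxFunctor X).obj S //
      ∀ {S T : (Finset (QC X))ᵒᵖ} (f : S ⟶ T), (approxFunctor X).map f (u S) = u T} := fun x =>
    ⟨fun S => show approxObj X S.unop from ⟨vec X S.unop x, x, rfl⟩, fun f => rfl⟩
  have hvec : Continuous fun (x : X) (U : QC X) => (x ∈ U.1) :=
    continuous_pi fun U => isOpen_iff_continuous_mem.1 U.2.1
  have hg : Continuous g := Continuous.subtype_mk (continuous_pi fun S =>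
    Continuous.subtype_mk (continuous_pi fun U => isOpen_iff_continuous_mem.1 U.1.2.1) _) _
  have hinj : Function.Injective g := by
    intro x y hxy
    refine Inseparable.eq ((inseparable_iff_forall_isOpen).2 fun s hs => ?_)
    have key : ∀ U : QC X, x ∈ U.1 ↔ y ∈ U.1 := fun U =>
      iff_of_eq (congrFun (congrArg (fun q => (q.1 (op {U})).1) hxy) ⟨U, Finset.mem_singleton_self U⟩)
    rw [(PrespectralSpace.isTopologicalBasis (X := X)).open_eq_sUnion' hs]
    simp only [mem_sUnion]
    exact ⟨fun ⟨t, ht, hxt⟩ => ⟨t, ht, (key ⟨t, ht.1⟩).1 hxt⟩,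
      fun ⟨t, ht, hxt⟩ => ⟨t, ht, (key ⟨t, ht.1⟩).2 hxt⟩⟩
  have hsurj : Function.Surjective g := by
    intro q
    have hclosed : ∀ S : (Finset (QC X))ᵒᵖ,
        @IsClosed X (constructibleTopology X) {x | vec X S.unop x = (q.1 S).1} := by
      intro S
      simp only [funext_iff, ofPred_forall]
      refine @isClosed_iInter X _ (constructibleTopology X) _ fun U => ?_
      by_cases hU : (q.1 S).1 U
      · simpa [vec, hU] using isClosed_cons_of_qc U.1.2.1 U.1.2.2
      · have := @IsOpen.isClosed_compl X (constructibleTopology X) _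
          (isOpen_cons_of_qc U.1.2.1 U.1.2.2)
        simpa [vec, hU, compl_def] using this
    obtain ⟨x, hx⟩ := iInter_nonempty_cons _ hclosed fun s => by
      let G : Finset (QC X) := s.biUnion fun S => S.unop
      obtain ⟨x, hx⟩ := (q.1 (op G)).2
      refine ⟨x, mem_iInter₂.2 fun S hS => ?_⟩
      have hsub : S.unop ⊆ G := fun U hU => Finset.mem_biUnion.2 ⟨S, hS, hU⟩
      show vec X S.unop x = (q.1 S).1
      rw [← congrArg Subtype.val (q.2 ((homOfLE hsub).op : op G ⟶ S))]
      funext U
      exact congrFun hx ⟨U.1, hsub U.2⟩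
    exact ⟨x, Subtype.ext (funext fun S => Subtype.ext (mem_iInter.1 hx S))⟩
  have hind : IsInducing g := by
    refine IsInducing.of_comp hg (g := fun q (U : QC X) =>
      (q.1 (op {U})).1 ⟨U, Finset.mem_singleton_self U⟩) ?_ ?_
    · exact continuous_pi fun U => (continuous_apply _).comp (continuous_subtype_val.comp
        ((continuous_apply _).comp continuous_subtype_val))
    · refine ⟨le_antisymm hvec.le_induced ?_⟩
      intro U hU
      rw [(PrespectralSpace.isTopologicalBasis (X := X)).open_eq_sUnion' hU]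
      refine @isOpen_sUnion X (induced (fun (x : X) (U : QC X) => (x ∈ U.1)) inferInstance) _
        fun V hV => ?_
      exact isOpen_induced_iff.2 ⟨(fun p : QC X → Prop => p ⟨V, hV.1⟩) ⁻¹' {True},
        isOpen_singleton_true.preimage (continuous_apply _), by ext x; simp⟩
  exact TopCat.isoOfHomeo
    ((Equiv.ofBijective g ⟨hinj, hsurj⟩).toHomeomorphOfIsInducing hind)

theorem eqvGen_specializes (X : Type u) [TopologicalSpace X] [NoetherianSpace X] [QuasiSober X]
    [ConnectedSpace X] (p q : X) : Relation.EqvGen (fun x y : X => x ⤳ y) p q := by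
  let r := Relation.EqvGen (fun x y : X => x ⤳ y)
  let C : Set X := {x | r p x}
  have hcomp : ∀ Z ∈ irreducibleComponents X, (Z ∩ C).Nonempty → Z ⊆ C := by
    rintro Z hZ ⟨a, haZ, haC⟩ b hbZ
    obtain ⟨η, hη⟩ := QuasiSober.sober hZ.1 (isClosed_of_mem_irreducibleComponents Z hZ)
    exact .trans _ _ _ haC (.trans _ η _ (.symm _ _ (.rel _ _ (hη.specializes haZ))) (.rel _ _ (hη.specializes hbZ)))
  have hclosed : IsClosed C := by
    have : C = ⋃₀ {Z ∈ irreducibleComponents X | Z ⊆ C} := by
      refine subset_antisymm (fun x hx => ?_) (sUnion_subset fun Z hZ => hZ.2)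
      obtain ⟨Z, hZ, hxZ⟩ : x ∈ ⋃₀ irreducibleComponents X := by
        rw [sUnion_irreducibleComponents]; trivial
      exact ⟨Z, ⟨hZ, hcomp Z hZ ⟨x, hxZ, hx⟩⟩, hxZ⟩
    rw [this]
    rw [sUnion_eq_biUnion]
    exact (NoetherianSpace.finite_irreducibleComponents.subset (sep_subset _ _)).isClosed_biUnion
      fun Z hZ => isClosed_of_mem_irreducibleComponents Z hZ.1
  have hclosed' : IsClosed Cᶜ := by
    have : Cᶜ = ⋃₀ {Z ∈ irreducibleComponents X | Z ⊆ Cᶜ} := by
      refine subset_antisymm (fun x hx => ?_) (sUnion_subset fun Z hZ => hZ.2)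
      obtain ⟨Z, hZ, hxZ⟩ : x ∈ ⋃₀ irreducibleComponents X := by
        rw [sUnion_irreducibleComponents]; trivial
      exact ⟨Z, ⟨hZ, fun y hy hyC => hx (hcomp Z hZ ⟨y, hy, hyC⟩ hxZ)⟩, hxZ⟩
    rw [this]
    rw [sUnion_eq_biUnion]
    exact (NoetherianSpace.finite_irreducibleComponents.subset (sep_subset _ _)).isClosed_biUnion
      fun Z hZ => isClosed_of_mem_irreducibleComponents Z hZ.1
  have hcl : IsClopen C := ⟨hclosed, isClosed_compl_iff.1 hclosed'⟩
  have huniv : C = univ := (isClopen_iff.1 hcl).resolve_left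
    (Set.Nonempty.ne_empty ⟨p, Relation.EqvGen.refl p⟩)
  exact (huniv ▸ mem_univ q : q ∈ C)

end Groth.Agent.SpecSp50
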