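import Groth.Agent.SpecSp50.Maps
import Mathlib.Topology.Category.TopCat.Limits.Basic
import Mathlib.CategoryTheory.Filtered.Basic

/-! Limits of spectral spaces. -/

set_option autoImplicit false
set_option linter.unusedVariables false
set_option linter.unusedSectionVars false
set_option linter.style.haveILetI false

universe u

open Set Topology TopologicalSpace CategoryTheory CategoryTheory.Limits

namespace Groth.Agent.SpecSp50

variable {J : Type u} [SmallCategory J] (F : J ⥤ TopCat.{u}) (c : Cone F)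

/-- The product of the constructible topologies of the members of a diagram. -/
@[instance_reducible]
def piCons : TopologicalSpace (∀ j, F.obj j) :=
  @Pi.topologicalSpace J (fun j => F.obj j) (fun j => constructibleTopology (F.obj j))

/-- The map from a cone point to the product. -/
def toPi : c.pt → ∀ j, F.obj j := fun x j => c.π.app j x

theorem map_π (x : c.pt) {i j : J} (a : i ⟶ j) : F.map a (c.π.app i x) = c.π.app j x :=
  (congrArg (fun m : c.pt ⟶ F.obj j => m x) (c.w a))

theorem mem_preimage_map_π (x : c.pt) {i j : J} (a : i ⟶ j) (A : Set (F.obj j)) :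
    c.π.app i x ∈ F.map a ⁻¹' A ↔ c.π.app j x ∈ A :=
  iff_of_eq (congrArg (· ∈ A) (map_π F c x a))

theorem toPi_spec (hc : IsLimit c) :
    Topology.IsEmbedding (toPi F c) ∧
      range (toPi F c) = {p | ∀ (i j : J) (a : i ⟶ j), F.map a (p i) = p j} := by
  let e := hc.conePointUniqueUpToIso (TopCat.limitConeIsLimit.{u, u} F)
  have he : toPi F c = fun x => (TopCat.homeoOfIso e x).1 := by
    funext x j
    exact (congrArg (fun m : c.pt ⟶ F.obj j => m x)
      (IsLimit.conePointUniqueUpToIso_hom_comp hc (TopCat.limitConeIsLimit.{u, u} F) j)).symm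
  constructor
  · rw [he]
    exact IsEmbedding.subtypeVal.comp (TopCat.homeoOfIso e).isEmbedding
  · refine subset_antisymm ?_ fun p hp => ?_
    · rintro _ ⟨x, rfl⟩ i j a
      exact map_π F c x a
    · obtain ⟨x, hx⟩ := (TopCat.homeoOfIso e).surjective ⟨p, fun {i j} a => hp i j a⟩
      exact ⟨x, (congrFun he x).trans (congrArg Subtype.val hx)⟩

variable (hF : ∀ j, SpectralSpace (F.obj j))
  (hFm : ∀ {i j : J} (a : i ⟶ j), IsSpectralMap (F.map a : F.obj i → F.obj j))

include hF

theorem compactSpace_piCons : @CompactSpace _ (piCons F) :=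
  @Pi.compactSpace J (fun j => F.obj j) (fun j => constructibleTopology (F.obj j))
    (fun j => compactSpace_cons)

theorem isClosed_eval_preimage (j : J) {Z : Set (F.obj j)}
    (hZ : @IsClosed (F.obj j) (constructibleTopology (F.obj j)) Z) :
    @IsClosed _ (piCons F) {p | p j ∈ Z} :=
  @IsClosed.preimage _ _ (piCons F) (constructibleTopology (F.obj j)) _
    (@continuous_apply J (fun j => F.obj j) (fun j => constructibleTopology (F.obj j)) j) _ hZ

include hFm

theorem isClosed_compatible {i j : J} (a : i ⟶ j) :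
    @IsClosed _ (piCons F) {p | F.map a (p i) = p j} :=
  @isClosed_eq (F.obj j) (∀ j, F.obj j) (constructibleTopology (F.obj j)) (piCons F) t2Space_cons _ _
    (@Continuous.comp _ _ _ (piCons F) (constructibleTopology (F.obj i)) (constructibleTopology (F.obj j))
      _ _ (continuous_cons_of_isSpectralMap (hFm a))
      (@continuous_apply J (fun j => F.obj j) (fun j => constructibleTopology (F.obj j)) i))
    (@continuous_apply J (fun j => F.obj j) (fun j => constructibleTopology (F.obj j)) j)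

theorem spectralSpace_limit (hc : IsLimit c) :
    SpectralSpace c.pt ∧ constructibleTopology c.pt = (piCons F).induced (toPi F c) := by
  obtain ⟨hemb, hrange⟩ := toPi_spec F c hc
  have hclosed : @IsClosed _ (piCons F) (range (toPi F c)) := by
    rw [hrange]
    simp only [ofPred_forall]
    exact @isClosed_iInter _ _ (piCons F) _ fun i => @isClosed_iInter _ _ (piCons F) _ fun j =>
      @isClosed_iInter _ _ (piCons F) _ fun a => isClosed_compatible F hF hFm a
  have hT0 : T0Space c.pt := hemb.t0Space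
  have hind := hemb.isInducing.eq_induced
  have hle : (piCons F).induced (toPi F c) ≤ c.pt.str :=
    (induced_mono (iInf_mono fun i => induced_mono cons_le)).trans hind.ge
  have hcpt : @CompactSpace c.pt ((piCons F).induced (toPi F c)) := by
    refine @CompactSpace.mk c.pt ((piCons F).induced (toPi F c)) ?_
    refine (@IsInducing.isCompact_iff c.pt _ ((piCons F).induced (toPi F c)) (piCons F) univ
      (toPi F c) (@IsInducing.mk _ _ ((piCons F).induced (toPi F c)) (piCons F) _ rfl)).2 ?_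
    rw [image_univ]
    exact @IsClosed.isCompact _ (piCons F) _ (compactSpace_piCons F hF) hclosed
  have hB := (isTopologicalBasis_pi
    (fun i => PrespectralSpace.isTopologicalBasis (X := F.obj i))).isInducing hemb.isInducing
  have hBc : ∀ S ∈ image (preimage (toPi F c)) {S : Set (∀ i, F.obj i) | ∃ (U : ∀ i, Set (F.obj i))
      (I : Finset J), (∀ i, i ∈ I → U i ∈ {U : Set (F.obj i) | IsOpen U ∧ IsCompact U}) ∧
        S = (I : Set J).pi U},
      @IsClosed c.pt ((piCons F).induced (toPi F c)) S := by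
    rintro _ ⟨_, ⟨U, I, hU, rfl⟩, rfl⟩
    refine (@isClosed_induced_iff _ _ (piCons F) _ _).2 ⟨_, ?_, rfl⟩
    exact @isClosed_set_pi J (fun j => F.obj j) (fun j => constructibleTopology (F.obj j)) _ _
      fun i hi => isClosed_cons_of_qc (hU i hi).1 (hU i hi).2
  exact ⟨spectralSpace_of_compact _ hle hcpt _ hB hBc, cons_eq_of_basis _ hle hcpt _ hB hBc⟩

theorem isSpectralMap_π (hc : IsLimit c) (j : J) :
    IsSpectralMap (c.π.app j : c.pt → F.obj j) := by
  obtain ⟨h1, h2⟩ := spectralSpace_limit F c hF hFm hc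
  refine @isSpectralMap_of_continuous_cons c.pt (F.obj j) c.pt.str (F.obj j).str h1 _ (c.π.app j).hom.continuous ?_
  show @Continuous c.pt (F.obj j) (constructibleTopology c.pt) (constructibleTopology (F.obj j)) (c.π.app j)
  rw [h2]
  exact @Continuous.comp _ _ _ ((piCons F).induced (toPi F c)) (piCons F)
    (constructibleTopology (F.obj j)) _ _
    (@continuous_apply J (fun j => F.obj j) (fun j => constructibleTopology (F.obj j)) j)
    (@continuous_induced_dom _ _ (toPi F c) (piCons F))

theorem isClosed_π_preimage (hc : IsLimit c) (j : J) {Z : Set (F.obj j)}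
    (hZ : @IsClosed (F.obj j) (constructibleTopology (F.obj j)) Z) :
    @IsClosed c.pt (constructibleTopology c.pt) (c.π.app j ⁻¹' Z) :=
  @IsClosed.preimage _ _ (constructibleTopology c.pt) (constructibleTopology (F.obj j)) _
    (continuous_cons_of_isSpectralMap (isSpectralMap_π F c hF hFm hc j)) _ hZ

theorem isCompact_sections_mem (hc : IsLimit c) (Z : ∀ j, Set (F.obj j))
    (hZ : ∀ j, @IsClosed (F.obj j) (constructibleTopology (F.obj j)) (Z j)) :
    IsCompact {x : c.pt | ∀ j, c.π.app j x ∈ Z j} := by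
  have := (spectralSpace_limit F c hF hFm hc).1
  refine isCompact_of_isClosed_cons ?_
  rw [ofPred_forall]
  exact @isClosed_iInter _ _ (constructibleTopology c.pt) _ fun j =>
    isClosed_π_preimage F c hF hFm hc j (hZ j)

theorem exists_mem_of_forall_nonempty [IsCofiltered J] (hc : IsLimit c) (i : J) (Z : Set (F.obj i))
    (hZ : @IsClosed (F.obj i) (constructibleTopology (F.obj i)) Z)
    (h : ∀ (j : J) (a : j ⟶ i), (F.map a ⁻¹' Z).Nonempty) : ∃ x : c.pt, c.π.app i x ∈ Z := by
  classical
  obtain ⟨hemb, hrange⟩ := toPi_spec F c hc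
  have hne : ∀ j, Nonempty (F.obj j) := fun j =>
    let ⟨y, _⟩ := h (IsCofiltered.min i j) (IsCofiltered.minToLeft i j)
    ⟨F.map (IsCofiltered.minToRight i j) y⟩
  let K : Option (Σ a b : J, a ⟶ b) → Set (∀ j, F.obj j) := fun o =>
    o.elim {p | p i ∈ Z} fun t => {p | F.map t.2.2 (p t.1) = p t.2.1}
  have hK : (⋂ o, K o).Nonempty := by
    refine @CompactSpace.iInter_nonempty _ (piCons F) _ (compactSpace_piCons F hF) K ?_ fun s => ?_
    · rintro (_ | ⟨a, b, f⟩)
      · exact isClosed_eval_preimage F hF i hZ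
      · exact isClosed_compatible F hF hFm f
    · obtain ⟨O, hOi, hO⟩ : ∃ O : Finset J, i ∈ O ∧ ∀ t ∈ s.eraseNone, t.1 ∈ O ∧ t.2.1 ∈ O :=
        ⟨insert i (s.eraseNone.image (fun t => t.1) ∪ s.eraseNone.image (fun t => t.2.1)),
          Finset.mem_insert_self _ _, fun t ht =>
            ⟨Finset.mem_insert_of_mem (Finset.mem_union_left _ (Finset.mem_image_of_mem _ ht)),
              Finset.mem_insert_of_mem (Finset.mem_union_right _ (Finset.mem_image_of_mem _ ht))⟩⟩
      let g : {t // t ∈ s.eraseNone} → (Σ' (a b : J) (_ : a ∈ O) (_ : b ∈ O), a ⟶ b) := fun t =>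
        ⟨t.1.1, t.1.2.1, (hO t.1 t.2).1, (hO t.1 t.2).2, t.1.2.2⟩
      obtain ⟨S, m, hm⟩ := IsCofiltered.inf_exists O (s.eraseNone.attach.image g)
      obtain ⟨y, hy⟩ := h S (m hOi)
      obtain ⟨p, hp⟩ : ∃ p : ∀ j, F.obj j, ∀ (j : J) (hj : j ∈ O), p j = F.map (m hj) y :=
        ⟨fun j => if hj : j ∈ O then F.map (m hj) y else Classical.choice (hne j),
          fun j hj => dif_pos hj⟩
      refine ⟨p, mem_iInter₂.2 fun o ho => ?_⟩
      cases o with
      | none =>
        show p i ∈ Z
        rw [hp i hOi]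
        exact hy
      | some t =>
        have ht : t ∈ s.eraseNone := Finset.mem_eraseNone.2 ho
        show F.map t.2.2 (p t.1) = p t.2.1
        rw [hp t.1 (hO t ht).1, hp t.2.1 (hO t ht).2]
        have h1 : m (hO t ht).1 ≫ t.2.2 = m (hO t ht).2 :=
          hm (mX := (hO t ht).1) (mY := (hO t ht).2) (f := t.2.2)
            (Finset.mem_image_of_mem g (Finset.mem_attach _ ⟨t, ht⟩))
        rw [← h1, F.map_comp]
        rfl
  obtain ⟨p, hp⟩ := hK
  have hpr : p ∈ range (toPi F c) := by
    rw [hrange]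
    exact fun a b f => mem_iInter.1 hp (some ⟨a, b, f⟩)
  obtain ⟨x, rfl⟩ := hpr
  exact ⟨x, mem_iInter.1 hp none⟩

theorem exists_section_mem [IsCofiltered J] (hc : IsLimit c) (Z : ∀ j, Set (F.obj j))
    (hne : ∀ j, (Z j).Nonempty)
    (hZ : ∀ j, @IsClosed (F.obj j) (constructibleTopology (F.obj j)) (Z j))
    (hmap : ∀ {i j : J} (a : i ⟶ j), MapsTo (F.map a) (Z i) (Z j)) :
    ∃ x : c.pt, ∀ j, c.π.app j x ∈ Z j := by
  classical
  have := (spectralSpace_limit F c hF hFm hc).1
  obtain ⟨x, hx⟩ := iInter_nonempty_cons (X := c.pt) (fun j => {x : c.pt | c.π.app j x ∈ Z j})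
    (fun j => isClosed_π_preimage F c hF hFm hc j (hZ j)) fun s => by
      obtain ⟨k, hk⟩ := IsCofiltered.inf_objs_exists s
      obtain ⟨x, hx⟩ := exists_mem_of_forall_nonempty F c hF hFm hc k (Z k) (hZ k)
        fun j a => let ⟨y, hy⟩ := hne j; ⟨y, hmap a hy⟩
      refine ⟨x, mem_iInter₂.2 fun j hj => ?_⟩
      obtain ⟨a⟩ := hk hj
      show c.π.app j x ∈ Z j
      exact (mem_preimage_map_π F c x a (Z j)).1 (hmap a hx)
  exact ⟨x, fun j => mem_iInter.1 hx j⟩

theorem preimage_subset_iff [IsCofiltered J] (hc : IsLimit c) (i : J) (E G : Set (F.obj i))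
    (hE : @IsClosed (F.obj i) (constructibleTopology (F.obj i)) E)
    (hG : @IsOpen (F.obj i) (constructibleTopology (F.obj i)) G) :
    (c.π.app i ⁻¹' E ⊆ c.π.app i ⁻¹' G) ↔ ∃ (j : J) (a : j ⟶ i), F.map a ⁻¹' E ⊆ F.map a ⁻¹' G := by
  constructor
  · intro h
    by_contra hne
    push Not at hne
    obtain ⟨x, hxE, hxG⟩ := exists_mem_of_forall_nonempty F c hF hFm hc i (E ∩ Gᶜ)
      (@IsClosed.inter _ _ _ (constructibleTopology (F.obj i)) hE
        (@IsOpen.isClosed_compl _ (constructibleTopology (F.obj i)) _ hG))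
      fun j a => let ⟨y, hy, hy'⟩ := not_subset.1 (hne j a); ⟨y, hy, hy'⟩
    exact hxG (h hxE)
  · rintro ⟨j, a, h⟩ x hx
    exact (mem_preimage_map_π F c x a G).1 (h ((mem_preimage_map_π F c x a E).2 hx))

omit hF hFm in
/-- A neighbourhood in the topology induced from a product is pulled back from one stage. -/
theorem exists_stage_nhds [IsCofiltered J] (τ : ∀ j, TopologicalSpace (F.obj j))
    (hτ : ∀ {i j : J} (a : i ⟶ j), @Continuous (F.obj i) (F.obj j) (τ i) (τ j) (F.map a))
    {O : Set c.pt}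
    (hO : @IsOpen c.pt ((@Pi.topologicalSpace J (fun j => F.obj j) τ).induced (toPi F c)) O)
    {x : c.pt} (hx : x ∈ O) :
    ∃ (k : J) (U : Set (F.obj k)), @IsOpen (F.obj k) (τ k) U ∧ c.π.app k x ∈ U ∧
      c.π.app k ⁻¹' U ⊆ O := by
  classical
  obtain ⟨W, hW, rfl⟩ := (@isOpen_induced_iff _ _ (@Pi.topologicalSpace J (fun j => F.obj j) τ) _ _).1 hO
  obtain ⟨I, U, hU, hsub⟩ := (@isOpen_pi_iff J (fun j => F.obj j) τ W).1 hW (toPi F c x) hx
  obtain ⟨k, hk⟩ := IsCofiltered.inf_objs_exists I
  let a : ∀ j : I, k ⟶ (j : J) := fun j => (hk j.2).some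
  refine ⟨k, ⋂ j : I, F.map (a j) ⁻¹' U j, ?_, ?_, ?_⟩
  · exact @isOpen_iInter_of_finite _ _ (τ k) _ _ fun j =>
      @IsOpen.preimage _ _ (τ k) (τ j) _ (hτ (a j)) _ (hU j j.2).1
  · exact mem_iInter.2 fun j => (mem_preimage_map_π F c x (a j) _).2 (hU j j.2).2
  · intro y hy
    refine hsub fun j hj => ?_
    exact (mem_preimage_map_π F c y (a ⟨j, hj⟩) _).1 (mem_iInter.1 hy ⟨j, hj⟩)

omit hF hFm in
/-- Finitely many sets on various stages, moved to a common one. -/
theorem exists_common_stage [IsCofiltered J] {ι : Type*} (T : Finset ι) (k : ι → J) :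
    ∃ (l : J) (a : ∀ t : T, l ⟶ k t), True := by
  classical
  obtain ⟨l, hl⟩ := IsCofiltered.inf_objs_exists (T.image k)
  exact ⟨l, fun t => (hl (Finset.mem_image_of_mem k t.2)).some, trivial⟩

theorem exists_qc_open_preimage_eq [IsCofiltered J] (hc : IsLimit c) {U : Set c.pt}
    (hUo : IsOpen U) (hUc : IsCompact U) :
    ∃ (i : J) (V : Set (F.obj i)), IsOpen V ∧ IsCompact V ∧ c.π.app i ⁻¹' V = U := by
  classical
  have hind := (toPi_spec F c hc).1.isInducing.eq_induced
  have hloc : ∀ x : U, ∃ (k : J) (V : Set (F.obj k)), (IsOpen V ∧ IsCompact V) ∧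
      c.π.app k x.1 ∈ V ∧ c.π.app k ⁻¹' V ⊆ U := by
    intro x
    obtain ⟨k, V, hVo, hxV, hV⟩ := exists_stage_nhds F c (fun j => (F.obj j).str)
      (fun a => (F.map a).hom.continuous) (O := U) (hind ▸ hUo) x.2
    obtain ⟨W, hW, hxW, hWV⟩ :=
      (PrespectralSpace.isTopologicalBasis (X := F.obj k)).exists_subset_of_mem_open hxV hVo
    exact ⟨k, W, hW, hxW, (preimage_mono hWV).trans hV⟩
  choose k V hV hxV hVU using hloc
  obtain ⟨T, hT⟩ := hUc.elim_finite_subcover (fun x : U => c.π.app (k x) ⁻¹' V x)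
    (fun x => (hV x).1.preimage (c.π.app (k x)).hom.continuous)
    fun x hx => mem_iUnion.2 ⟨⟨x, hx⟩, hxV ⟨x, hx⟩⟩
  obtain ⟨l, a, -⟩ := exists_common_stage T k
  refine ⟨l, ⋃ t : T, F.map (a t) ⁻¹' V t, isOpen_iUnion fun t => (hV t).1.preimage (F.map (a t)).hom.continuous,
    isCompact_iUnion fun t => (hFm (a t)).isCompact_preimage_of_isOpen (hV t).1 (hV t).2, ?_⟩
  refine subset_antisymm (fun y hy => ?_) fun y hy => ?_
  · obtain ⟨t, ht⟩ := mem_iUnion.1 hy
    exact hVU t ((mem_preimage_map_π F c y (a t) _).1 ht)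
  · obtain ⟨t, ht, ht'⟩ := mem_iUnion₂.1 (hT hy)
    exact mem_iUnion.2 ⟨⟨t, ht⟩, (mem_preimage_map_π F c y (a ⟨t, ht⟩) _).2 ht'⟩

theorem exists_constructible_preimage_eq [IsCofiltered J] (hc : IsLimit c) {E : Set c.pt}
    (hE : IsConstructible E) :
    ∃ (i : J) (Ei : Set (F.obj i)), IsConstructible Ei ∧ c.π.app i ⁻¹' Ei = E := by
  have := (spectralSpace_limit F c hF hFm hc).1
  induction hE using IsConstructible.empty_union_induction with
  | open_retrocompact U ho hcp =>
    obtain ⟨i, V, hVo, hVc, hV⟩ := exists_qc_open_preimage_eq F c hF hFm hc ho hcp.isCompact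
    exact ⟨i, V, hVc.isConstructible hVo, hV⟩
  | union s hs t ht h1 h2 =>
    obtain ⟨i, A, hA, rfl⟩ := h1
    obtain ⟨j, B, hB, rfl⟩ := h2
    refine ⟨IsCofiltered.min i j, F.map (IsCofiltered.minToLeft i j) ⁻¹' A ∪
      F.map (IsCofiltered.minToRight i j) ⁻¹' B, ?_, ?_⟩
    · refine isConstructible_of_isClopen_cons (@IsClopen.union _ (constructibleTopology _) _ _ ?_ ?_)
      · exact @IsClopen.preimage _ _ (constructibleTopology _) (constructibleTopology _) _
          (isConstructible_cons_isClopen hA) _ (continuous_cons_of_isSpectralMap (hFm _))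
      · exact @IsClopen.preimage _ _ (constructibleTopology _) (constructibleTopology _) _
          (isConstructible_cons_isClopen hB) _ (continuous_cons_of_isSpectralMap (hFm _))
    · exact Set.ext fun x => or_congr (mem_preimage_map_π F c x _ A) (mem_preimage_map_π F c x _ B)
  | compl s hs h =>
    obtain ⟨i, A, hA, rfl⟩ := h
    exact ⟨i, Aᶜ, isConstructible_compl.2 hA, rfl⟩

theorem exists_preimage_eq_preimage [IsCofiltered J] (hc : IsLimit c) (i : J) (A B : Set (F.obj i))
    (hA : @IsClopen (F.obj i) (constructibleTopology (F.obj i)) A)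
    (hB : @IsClopen (F.obj i) (constructibleTopology (F.obj i)) B)
    (h : c.π.app i ⁻¹' A = c.π.app i ⁻¹' B) :
    ∃ (j : J) (a : j ⟶ i), F.map a ⁻¹' A = F.map a ⁻¹' B := by
  obtain ⟨j, a, ha⟩ := (preimage_subset_iff F c hF hFm hc i A B hA.1 hB.2).1 h.subset
  obtain ⟨k, b, hb⟩ := (preimage_subset_iff F c hF hFm hc i B A hB.1 hA.2).1 h.symm.subset
  obtain ⟨l, p, q, hpq⟩ := IsCofiltered.cospan a b
  refine ⟨l, p ≫ a, subset_antisymm (fun x hx => ?_) fun x hx => ?_⟩
  · simp only [mem_preimage, F.map_comp] at hx ⊢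
    exact ha hx
  · rw [hpq] at hx ⊢
    simp only [mem_preimage, F.map_comp] at hx ⊢
    exact hb hx

theorem preimage_subset_preimage_descend [IsCofiltered J] (hc : IsLimit c) (i j : J)
    (A : Set (F.obj i)) (B : Set (F.obj j))
    (hA : @IsClosed (F.obj i) (constructibleTopology (F.obj i)) A)
    (hB : @IsOpen (F.obj j) (constructibleTopology (F.obj j)) B)
    (h : c.π.app i ⁻¹' A ⊆ c.π.app j ⁻¹' B) :
    ∃ (k : J) (a : k ⟶ i) (b : k ⟶ j), F.map a ⁻¹' A ⊆ F.map b ⁻¹' B := by
  let m := IsCofiltered.min i j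
  let l := IsCofiltered.minToLeft i j
  let r := IsCofiltered.minToRight i j
  obtain ⟨k, a, ha⟩ := (preimage_subset_iff F c hF hFm hc m (F.map l ⁻¹' A) (F.map r ⁻¹' B)
    (@IsClosed.preimage _ _ (constructibleTopology _) (constructibleTopology _) _
      (continuous_cons_of_isSpectralMap (hFm l)) _ hA)
    (@IsOpen.preimage _ _ (constructibleTopology _) (constructibleTopology _) _
      (continuous_cons_of_isSpectralMap (hFm r)) _ hB)).1
    (fun x hx => (mem_preimage_map_π F c x r B).2 (h ((mem_preimage_map_π F c x l A).1 hx)))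
  refine ⟨k, a ≫ l, a ≫ r, fun x hx => ?_⟩
  simp only [mem_preimage, F.map_comp] at hx ⊢
  exact ha hx

end Groth.Agent.SpecSp50
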